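import Cfsg.Agent.KM.BK.A
import Cfsg.Agent.TID.Red.Main
import Cfsg.Agent.Blocks.PPart
import Cfsg.Agent.S0188
import Cfsg.Agent.S0924
import Cfsg.Agent.S0928
import Cfsg.Agent.S0943
import Cfsg.Agent.S5758
import Cfsg.Agent.Schreier.Basic

/-!
# KM, reduction to quasisimple groups: components (helper3)
-/

set_option autoImplicit false
set_option linter.style.haveILetI false
set_option linter.unusedSectionVars false

open Cfsg
open scoped Pointwise

namespace Cfsg.Agent.KM.BK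

open Cfsg.Agent Cfsg.Agent.Characters.Core Cfsg.Agent.Blocks Cfsg.Agent.TID.Red
open Cfsg.Agent.H591.Reynolds (IsStab)
open Cfsg.Agent.SignalizersComponents.Components

universe u v

variable {p : ℕ} [Fact p.Prime] {M : Ideal AlgInt} {G : Type u} [Group G] [Finite G]
  {B : Set (IrrCharacter G)} {D : Subgroup G}

omit [Finite G] in
theorem exists_mul_of_le_centralizer {K A : Subgroup G} (h : A ≤ Subgroup.centralizer (K : Set G)) {x : G}
    (hx : x ∈ K ⊔ A) : ∃ k ∈ K, ∃ a ∈ A, k * a = x := by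
  have h1 : x ∈ ((K ⊔ A : Subgroup G) : Set G) := hx
  rw [Subgroup.coe_mul_of_right_le_normalizer_left K A (h.trans (Subgroup.centralizer_le_normalizer _))] at h1
  exact h1

/-- the components that meet `D` trivially -/
def Zc (D : Subgroup G) : Set (Subgroup G) := {K | IsComponent K ∧ D ⊓ K = ⊥}

omit [Finite G] in
theorem sSup_Zc_le : sSup (Zc D) ≤ layer G := sSup_le fun _ hK => component_le_layer hK.1

theorem Zc_normal (hM : IsPModular p M) (hB : IsPBlock M B) (hD : IsDefectGroup p M B D)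
    (hc : IsPBlock M (cov B (layer G))) : (sSup (Zc D)).Normal := by
  have := layer_normal G
  have := Local.isPrime_of_isPModular hM
  have key : ∀ (g : G) (K : Subgroup G), K ∈ Zc D → K.map (MulAut.conj g).toMonoidHom ∈ Zc D := by
    intro g K hK
    refine ⟨isComponent_conj g hK.1, ?_⟩
    rw [eq_bot_iff]
    rintro _ ⟨h1, k, hk, rfl⟩
    have hkE := component_le_layer hK.1 hk
    obtain ⟨e, he⟩ := conj_defect hM hc (defect_cov hM hB hD hc)
      (defect_cov hM hB (Basic.isDefectGroup_conj hD g⁻¹) hc)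
    have h2 : (⟨k, hkE⟩ : layer G) ∈ (D.map (MulAut.conj g⁻¹).toMonoidHom ⊓ layer G).subgroupOf (layer G) :=
      ⟨⟨_, h1, by simp [mul_assoc]⟩, hkE⟩
    rw [← he] at h2
    obtain ⟨d, hd, h3⟩ := h2
    have h4 : (e : G) * d * (e : G)⁻¹ = k := congrArg Subtype.val h3
    have h5 : (d : G) ∈ D ⊓ K :=
      ⟨hd.1, (Subgroup.mem_normalizer_iff.1 (layer_le_normalizer_component hK.1 e.2) _).2 (h4 ▸ hk)⟩
    rw [hK.2, Subgroup.mem_bot] at h5
    rw [← h4, h5]
    simp
  refine ⟨fun n hn g => ?_⟩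
  have h1 : sSup (Zc D) ≤ (sSup (Zc D)).comap (MulAut.conj g).toMonoidHom :=
    sSup_le fun K hK => Subgroup.map_le_iff_le_comap.1 (le_sSup (key g K hK))
  exact h1 hn

theorem mul_apply_comp {N K : Subgroup G} (hKN : K ≤ N) (hN : N ≤ K ⊔ Subgroup.centralizer (K : Set G))
    (θ : IrrCharacter N) {a k : N} (ha : (a : G) ∈ Subgroup.centralizer (K : Set G)) (hk : (k : G) ∈ K) :
    (θ : N → ℂ) a * (θ : N → ℂ) k = (θ : N → ℂ) 1 * (θ : N → ℂ) (a * k) := by
  refine S0943.result θ a k fun x y hx hy => ?_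
  obtain ⟨s, rfl⟩ := isConj_iff.1 hx
  obtain ⟨t, rfl⟩ := isConj_iff.1 hy
  obtain ⟨k', hk', c, hc, h1⟩ := exists_mul_of_le_centralizer le_rfl (hN (s⁻¹ * t).2)
  have h2 : s * a * s⁻¹ * (t * k * t⁻¹) = (s * ⟨k', hKN hk'⟩) * (a * k) * (s * ⟨k', hKN hk'⟩)⁻¹ := by
    apply Subtype.ext
    have h3 : (t : G) = s * (k' * c) := by
      rw [h1]
      simp
    have h4 : (k : G) * c = c * k := Subgroup.mem_centralizer_iff.1 hc _ hk
    have h5 : k' * (a : G) = a * k' := Subgroup.mem_centralizer_iff.1 ha _ hk'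
    simp only [Subgroup.coe_mul, Subgroup.coe_inv]
    rw [h3]
    calc (s : G) * a * (s : G)⁻¹ * (s * (k' * c) * k * (s * (k' * c))⁻¹)
        = s * (a * k') * (c * k) * c⁻¹ * k'⁻¹ * (s : G)⁻¹ := by group
      _ = _ := by rw [← h4, ← h5]; group
  rw [h2]
  exact isIrr_isClassFunction θ.2 _ _

/-- **The components meeting `D` trivially generate a subgroup meeting `D` trivially.** -/
theorem inf_Zc (hM : IsPModular p M) (hB : IsPBlock M B) (hD : IsDefectGroup p M B D) [(sSup (Zc D)).Normal]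
    (hc : IsPBlock M (cov B (sSup (Zc D)))) : D ⊓ sSup (Zc D) = ⊥ := by
  have := Local.isPrime_of_isPModular hM
  have hp : p.Prime := Fact.out
  set N := sSup (Zc D) with hN
  have hd := defect_cov hM hB hD hc
  have hcen : ∀ K ∈ Zc D, ∀ T ⊆ Zc D, K ∉ T → sSup T ≤ Subgroup.centralizer (K : Set G) :=
    fun K hK T hT hKT => sSup_le fun L hL =>
      component_le_centralizer_of_ne (hT hL).1 hK.1 fun h => hKT (h ▸ hL)
  have hdec : ∀ K ∈ Zc D, N ≤ K ⊔ Subgroup.centralizer (K : Set G) := fun K hK => sSup_le fun L hL => by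
    by_cases h : L = K
    · exact h ▸ le_sup_left
    · exact (component_le_centralizer_of_ne hL.1 hK.1 h).trans le_sup_right
  have h1 : ∀ θ ∈ cov B N, ∀ K ∈ Zc D, ∀ k : N, (k : G) ∈ K → p ∣ orderOf k → (θ : N → ℂ) k = 0 := by
    intro θ hθ K hK k hk hpk
    obtain ⟨x, hx⟩ := PPart.exists_isPPart p k
    obtain ⟨n, hn⟩ := PPart.exists_pow_eq (G := N) p
    refine S0924.result p M hM θ k x hx fun D' hD' hxD => ?_
    rw [← Basic.isPBlock_eq_blockOf hc hθ] at hD'
    obtain ⟨e, he⟩ := conj_defect hM hc hd hD'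
    rw [← he] at hxD
    obtain ⟨d, hd', h3⟩ := hxD
    have h4 : (e : G) * d * (e : G)⁻¹ = x := congrArg Subtype.val h3
    have h6 : (x : G) ∈ K := by
      rw [← hn k x hx]
      exact K.pow_mem hk n
    have h5 : (d : G) ∈ D ⊓ K := ⟨hd'.1, (Subgroup.mem_normalizer_iff.1
      (layer_le_normalizer_component hK.1 (sSup_Zc_le e.2)) _).2 (h4 ▸ h6)⟩
    rw [hK.2, Subgroup.mem_bot] at h5
    refine Orthogonality.ne_one_of_isPPart hpk hx (Subtype.ext ?_)
    rw [← h4, h5]
    simp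
  have h2 : ∀ θ ∈ cov B N, ∀ T : Set (Subgroup G), T ⊆ Zc D →
      ∀ a : N, (a : G) ∈ sSup T → p ∣ orderOf a → (θ : N → ℂ) a = 0 := by
    intro θ hθ T
    induction T, Set.toFinite T using Set.Finite.induction_on with
    | empty =>
      intro _ a ha hpa
      rw [sSup_empty, Subgroup.mem_bot] at ha
      rw [show a = 1 from Subtype.ext ha, orderOf_one, Nat.dvd_one] at hpa
      exact absurd hpa hp.ne_one
    | @insert K T hKT _ ih =>
      intro hT a ha hpa
      have hK : K ∈ Zc D := hT (Set.mem_insert _ _)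
      have hT' : T ⊆ Zc D := (Set.subset_insert _ _).trans hT
      rw [sSup_insert] at ha
      obtain ⟨k, hk, c, hc', h3⟩ := exists_mul_of_le_centralizer (hcen K hK T hT' hKT) ha
      have hKN : K ≤ N := le_sSup hK
      have hcN : c ∈ N := sSup_le_sSup hT' hc'
      have hcc := hcen K hK T hT' hKT hc'
      have h4 : Commute (⟨c, hcN⟩ : N) ⟨k, hKN hk⟩ :=
        Subtype.ext (Subgroup.mem_centralizer_iff.1 hcc k hk).symm
      have h5 : a = (⟨c, hcN⟩ : N) * ⟨k, hKN hk⟩ := by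
        rw [h4.eq]
        exact Subtype.ext h3.symm
      have h6 := mul_apply_comp hKN (hdec K hK) θ (a := ⟨c, hcN⟩) (k := ⟨k, hKN hk⟩) hcc hk
      rw [← h5] at h6
      rw [h5] at hpa
      refine (mul_eq_zero.1 ?_).resolve_left (isIrr_apply_one_ne_zero θ.2)
      rw [← h6]
      rcases hp.dvd_mul.1 (hpa.trans h4.orderOf_mul_dvd_mul_orderOf) with h7 | h7
      · rw [ih hT' _ hc' h7, zero_mul]
      · rw [h1 θ hθ K hK _ hk h7, mul_zero]
  have h3 := H592.Defect.card_defect_le p hM hc hd (n := 0) fun θ hθ =>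
    (S0928.result p θ fun g hg => h2 θ hθ _ le_rfl g g.2 (hg ▸ dvd_rfl)).ge
  have h4 := H592.Defect.card_eq_pow_factorization p (H592.Defect.isPGroup_of_isDefectGroup hd)
  rw [Nat.le_zero.1 h3, pow_zero, Subgroup.card_eq_one] at h4
  rw [eq_bot_iff]
  intro x hx
  have h5 : (⟨x, hx.2⟩ : N) ∈ (D ⊓ N).subgroupOf N := hx
  rw [h4, Subgroup.mem_bot] at h5
  exact Subgroup.mem_bot.2 (congrArg Subtype.val h5)

/-- the centralizer of a non-trivial `p`-element of a component normalizes it -/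
theorem centralizer_le_normalizer_comp (hO : pCore p G = ⊥) {K : Subgroup G} (hK : IsComponent K) {x : G}
    (hx : x ∈ K) (h1 : x ≠ 1) (hp : IsPGroup p (Subgroup.zpowers x)) {g : G} (hg : g * x = x * g) :
    g ∈ Subgroup.normalizer (K : Set G) := by
  have h2 := isComponent_conj g hK
  by_cases h3 : K = K.map (MulAut.conj g).toMonoidHom
  · refine Subgroup.mem_normalizer_fintype fun l hl => ?_
    have h4 : (MulAut.conj g).toMonoidHom l ∈ K.map (MulAut.conj g).toMonoidHom := Subgroup.mem_map_of_mem _ hl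
    rw [← h3] at h4
    exact h4
  · exfalso
    have h4 : x ∈ K.map (MulAut.conj g).toMonoidHom := ⟨x, hx, by
      change g * x * g⁻¹ = x
      rw [hg, mul_inv_cancel_right]⟩
    have h5 : layer G ≤ Subgroup.centralizer (Subgroup.zpowers x : Set G) := by
      rw [layer_le_iff]
      intro L hL
      rw [Subgroup.le_centralizer_iff, Subgroup.zpowers_le]
      by_cases h6 : L = K
      · rw [h6]
        exact component_le_centralizer_of_ne h2 hK (Ne.symm h3) h4
      · exact component_le_centralizer_of_ne hK hL (Ne.symm h6) hx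
    have h6 := Lib.GenFitting.le_pCore_of_normal_in_normal (layer_normal G)
      (Subgroup.zpowers_le.2 (component_le_layer hK hx)) (h5.trans (Subgroup.centralizer_le_normalizer _)) hp
    rw [hO] at h6
    exact h1 (Subgroup.mem_bot.1 (h6 (Subgroup.mem_zpowers x)))

/-- the subgroup normalizing all components -/
def G0 (G : Type u) [Group G] : Subgroup G := ⨅ K : {K : Subgroup G // IsComponent K}, Subgroup.normalizer (K.1 : Set G)

omit [Finite G] in
theorem mem_G0 {g : G} : g ∈ G0 G ↔ ∀ K : Subgroup G, IsComponent K → g ∈ Subgroup.normalizer (K : Set G) := by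
  unfold G0
  rw [Subgroup.mem_iInf]
  exact ⟨fun h K hK => h ⟨K, hK⟩, fun h K => h K.1 K.2⟩

theorem G0_normal : (G0 G).Normal := by
  refine ⟨fun n hn g => mem_G0.2 fun K hK => Subgroup.mem_normalizer_fintype fun k hk => ?_⟩
  have h1 := (Subgroup.mem_normalizer_iff.1 (mem_G0.1 hn _ (isComponent_conj g⁻¹ hK)) _).1
    (Subgroup.mem_map_of_mem (MulAut.conj g⁻¹).toMonoidHom hk)
  obtain ⟨l, hl, h2⟩ := h1
  have h3 : g⁻¹ * l * g⁻¹⁻¹ = n * (g⁻¹ * k * g⁻¹⁻¹) * n⁻¹ := h2
  have h4 : g * n * g⁻¹ * k * (g * n * g⁻¹)⁻¹ = l := by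
    calc g * n * g⁻¹ * k * (g * n * g⁻¹)⁻¹ = g * (n * (g⁻¹ * k * g⁻¹⁻¹) * n⁻¹) * g⁻¹ := by group
      _ = l := by rw [← h3]; group
  rw [h4]
  exact hl

/-- **Schreier.** -/
theorem sup_centralizer_eq_top (hG : ⁅(⊤ : Subgroup G), (⊤ : Subgroup G)⁆ = ⊤) {K : Subgroup G} [K.Normal]
    (hK : IsComponent K) : K ⊔ Subgroup.centralizer (K : Set G) = ⊤ := by
  have h := soc_quot hK
  set C := Subgroup.centralizer (K : Set G) with hC
  set S := K.map (QuotientGroup.mk' C) with hS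
  have := h.normal
  have := h.simple
  have := S5758.result (G := S)
  rw [eq_top_iff]
  intro g _
  have h1 := Schreier.Basic.apply_eq_one_of_perfect
    (((QuotientGroup.mk' (Inn S)).comp (MulAut.conjNormal (H := S))).comp (QuotientGroup.mk' C)) hG
    (Subgroup.mem_top g)
  obtain ⟨s, hs⟩ := (QuotientGroup.eq_one_iff _).1 h1
  have h2 : (s : G ⧸ C)⁻¹ * (g : G ⧸ C) ∈ Subgroup.centralizer (S : Set (G ⧸ C)) := by
    rw [Subgroup.mem_centralizer_iff]
    intro y hy
    have h3 : (s : G ⧸ C) * y * (s : G ⧸ C)⁻¹ = (g : G ⧸ C) * y * (g : G ⧸ C)⁻¹ :=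
      congrArg (fun φ : MulAut S => (φ ⟨y, hy⟩ : G ⧸ C)) hs
    calc y * ((s : G ⧸ C)⁻¹ * g) = (s : G ⧸ C)⁻¹ * (s * y * (s : G ⧸ C)⁻¹) * g := by group
      _ = _ := by rw [h3]; group
  rw [h.cent, Subgroup.mem_bot, inv_mul_eq_one] at h2
  obtain ⟨k, hk, h3⟩ := s.2
  have h4 : k⁻¹ * g ∈ C := QuotientGroup.eq.1 (h3.trans h2)
  have h5 := Subgroup.mul_mem_sup hk h4
  rwa [mul_inv_cancel_left] at h5

/-- **Central products.** -/
theorem eq_of_prod {K C : Subgroup G} (hC : C ≤ Subgroup.centralizer (K : Set G)) (h : K ⊔ C = ⊤)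
    (hK' : EQ p (cov B K)) (hC' : EQ p (cov B C)) : EQ p B := by
  letI := Fintype.ofFinite K
  letI := Fintype.ofFinite C
  let m : K × C →* G := K.subtype.noncommCoprod C.subtype fun k c =>
    Subgroup.mem_centralizer_iff.1 (hC c.2) k k.2
  have hm : Function.Surjective m := by
    intro g
    obtain ⟨k, hk, c, hc, rfl⟩ := exists_mul_of_le_centralizer hC (h ▸ Subgroup.mem_top g)
    exact ⟨(⟨k, hk⟩, ⟨c, hc⟩), rfl⟩
  have key : ∀ χ ∈ B, ∃ φ ∈ cov B K, ∃ ψ ∈ cov B C, nu p χ = nu p φ + nu p ψ := by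
    intro χ hχ
    obtain ⟨φ, ψ, hφ, hψ, h1⟩ := (S0188.result _).1 (isIrr_comp m hm χ.2)
    have h2 : ∀ (k : K) (c : C), (χ : G → ℂ) (k * c) = φ k * ψ c := fun k c => congrFun h1 (k, c)
    refine ⟨⟨φ, hφ⟩, ⟨χ, hχ, ?_⟩, ⟨ψ, hψ⟩, ⟨χ, hχ, ?_⟩, ?_⟩
    · rw [ov_subtype_iff]
      have h3 : (fun n : K => (χ : G → ℂ) n) = ψ 1 • φ := by
        funext k
        have h4 := h2 k 1
        rw [Subgroup.coe_one, mul_one] at h4
        rw [h4, Pi.smul_apply, smul_eq_mul, mul_comm]
      rw [h3, classInner_smul_left, classInner_irr_self hφ, mul_one]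
      exact isIrr_apply_one_ne_zero hψ
    · rw [ov_subtype_iff]
      have h3 : (fun n : C => (χ : G → ℂ) n) = φ 1 • ψ := by
        funext c
        have h4 := h2 1 c
        rw [Subgroup.coe_one, one_mul] at h4
        rw [h4, Pi.smul_apply, smul_eq_mul]
      rw [h3, classInner_smul_left, classInner_irr_self hψ, mul_one]
      exact isIrr_apply_one_ne_zero hφ
    · have h3 := h2 1 1
      rw [Subgroup.coe_one, Subgroup.coe_one, mul_one, Basic.irr_one_eq_charDegree χ.2,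
        Basic.irr_one_eq_charDegree hφ, Basic.irr_one_eq_charDegree hψ] at h3
      have h4 : charDegree (χ : G → ℂ) = charDegree φ * charDegree ψ := by exact_mod_cast h3
      unfold nu
      rw [h4, Nat.factorization_mul (Basic.charDegree_pos hφ).ne' (Basic.charDegree_pos hψ).ne', Finsupp.add_apply]
  intro χ hχ χ' hχ'
  obtain ⟨φ, hφ, ψ, hψ, h1⟩ := key χ hχ
  obtain ⟨φ', hφ', ψ', hψ', h2⟩ := key χ' hχ'
  rw [h1, h2]
  exact Nat.add_le_add (hK' φ hφ φ' hφ') (hC' ψ hψ ψ' hψ')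

end Cfsg.Agent.KM.BK
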