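import Cfsg.Agent.KM.BK.B
import Cfsg.Agent.KM.BK.C
import Cfsg.Agent.TID.BlkCases

/-!
# KM, reduction to quasisimple groups (Berger–Knörr) (helper3)

* `kmp_of_qsp`, `all_of_qs : QS → KMAll` (any two universes);
* `s4999_of` : the statement S4999 from `KMp`.
-/

set_option autoImplicit false
set_option linter.style.haveILetI false
set_option linter.unusedSectionVars false

open Cfsg

namespace Cfsg.Agent.KM.BK

open Cfsg.Agent Cfsg.Agent.Characters.Core Cfsg.Agent.Blocks Cfsg.Agent.TID.Red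
open Cfsg.Agent.H591.Reynolds (IsStab)
open Cfsg.Agent.SignalizersComponents.Components
open Cfsg.Agent.H644.CentralQuot (defl infl)

universe u v

/-- the order of the induction -/
def Lt (H G : Type u) [Group H] [Group G] : Prop :=
  (Subgroup.center H).index < (Subgroup.center G).index ∨
    ((Subgroup.center H).index ≤ (Subgroup.center G).index ∧ Nat.card H < Nat.card G)

variable {p : ℕ} [Fact p.Prime] {M : Ideal AlgInt} {G : Type u} [Group G] [Finite G]

theorem lt_sub (T : Subgroup G) (hT : T ≠ ⊤) : Lt T G := by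
  refine Or.inr ⟨?_, lt_of_le_of_ne (Subgroup.card_le_card_group T) fun h => hT (Subgroup.eq_top_of_card_eq T h)⟩
  have h1 : (Subgroup.center G).subgroupOf T ≤ Subgroup.center T := fun x hx =>
    Subgroup.mem_center_iff.2 fun g => Subtype.ext (Subgroup.mem_center_iff.1 hx g)
  exact (Subgroup.index_antitone h1).trans (Nat.le_of_dvd (Nat.pos_of_ne_zero Subgroup.index_ne_zero_of_finite)
    (Subgroup.relIndex_dvd_index_of_normal _ T))

theorem lt_quot (U : Subgroup G) [U.Normal] (hU : U ≠ ⊥) : Lt (G ⧸ U) G := by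
  refine Or.inr ⟨?_, ?_⟩
  · have h1 : (Subgroup.center G).map (QuotientGroup.mk' U) ≤ Subgroup.center (G ⧸ U) := by
      rintro _ ⟨z, hz, rfl⟩
      rw [Subgroup.mem_center_iff]
      intro q
      obtain ⟨g, rfl⟩ := QuotientGroup.mk'_surjective U q
      rw [← map_mul, ← map_mul, Subgroup.mem_center_iff.1 hz g]
    exact (Subgroup.index_antitone h1).trans (Nat.le_of_dvd (Nat.pos_of_ne_zero Subgroup.index_ne_zero_of_finite)
      (Subgroup.index_map_dvd _ (QuotientGroup.mk'_surjective U)))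
  · rw [← Subgroup.index_bot (G := G)]
    exact Subgroup.index_strictAnti (bot_lt_iff_ne_bot.2 hU)

theorem perfect_of (h1 : ∀ (N : Subgroup G) [N.Normal], ¬ p ∣ N.index → N = ⊤)
    (h2 : ∀ (N : Subgroup G) [N.Normal], (∃ k, N.index = p ^ k) → N = ⊤) :
    ⁅(⊤ : Subgroup G), (⊤ : Subgroup G)⁆ = ⊤ := by
  have : Finite (Abelianization G) := Finite.of_surjective _ (QuotientGroup.mk'_surjective (commutator G))
  obtain ⟨P⟩ : Nonempty (Sylow p (Abelianization G)) := inferInstance
  have hs : Function.Surjective (Abelianization.of : G →* Abelianization G) :=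
    QuotientGroup.mk'_surjective (commutator G)
  have h3 := Subgroup.index_comap_of_surjective (P : Subgroup (Abelianization G)) hs
  have h4 := h1 ((P : Subgroup (Abelianization G)).comap Abelianization.of) (by rw [h3]; exact P.not_dvd_index)
  rw [h4, Subgroup.index_top] at h3
  obtain ⟨k, hk⟩ := IsPGroup.iff_card.1 P.isPGroup'
  refine h2 (commutator G) ⟨k, ?_⟩
  rw [← hk, Subgroup.index_eq_one.1 h3.symm, Subgroup.card_top]
  rfl

theorem step (hQ : QSp.{u} p) (hM : IsPModular p M)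
    (ih : ∀ (H : Type u) [Group H] [Finite H], Lt H G → PP p M H) : PP p M G := by
  intro B D hB hD ha
  have := Local.isPrime_of_isPModular hM
  have hp : p.Prime := Fact.out
  have hDp := H592.Defect.isPGroup_of_isDefectGroup hD
  by_contra hne
  have ihs : ∀ T : Subgroup G, T ≠ ⊤ → PP p M T := fun T hT => ih T (lt_sub T hT)
  have st : ∀ (N : Subgroup G) [N.Normal], IsPBlock M (cov B N) ∧ IsStab (cov B N) ⊤ :=
    fun N _ => (cov_or hM hB hD ha N ihs).resolve_left hne
  have eqc : ∀ (N : Subgroup G) [N.Normal], N ≠ ⊤ → EQ p (cov B N) :=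
    fun N _ h => eq_cov_of_pp hM hB hD ha (st N).1 (ihs N h)
  have h1 : ∀ (N : Subgroup G) [N.Normal], ¬ p ∣ N.index → N = ⊤ := fun N _ h => by
    by_contra h'
    exact hne (eq_of_index h (eqc N h'))
  have h2 : ∀ (N : Subgroup G) [N.Normal], (∃ k, N.index = p ^ k) → N = ⊤ := fun N _ h => by
    by_contra h'
    exact hne (eq_of_index_pow hM hB hD ha (st N).1 (st N).2 h (eqc N h'))
  have hreg : ∀ (N : Subgroup G) [N.Normal], Subgroup.centralizer (D : Set G) ≤ N → N = ⊤ := fun N _ h =>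
    h1 N (not_dvd_index hM hB hD (st N).1 (st N).2 (ha.le_centralizer.trans h) h)
  have hperf := perfect_of h1 h2
  have hZ : ¬ p ∣ Nat.card (Subgroup.center G) := by
    intro h
    obtain ⟨z, hz⟩ := exists_prime_orderOf_dvd_card' p h
    have := zpowers_normal z.2
    have h3 : orderOf (z : G) = p := by rw [Subgroup.orderOf_coe, hz]
    refine hne (eq_of_central hM hB hD ha z.2 h3 (ih _ (lt_quot _ fun h4 => ?_)))
    rw [Subgroup.zpowers_eq_bot.1 h4, orderOf_one] at h3
    exact hp.ne_one h3.symm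
  have hO : pCore p G = ⊥ := by
    have := Lib.Cores.pCore_normal (G := G) p
    have h3 := hreg (Subgroup.centralizer (pCore p G : Set G))
      (Subgroup.centralizer_le (S0912.result p M hM B hB D hD))
    have h4 : pCore p G ≤ Subgroup.center G := Subgroup.centralizer_eq_top_iff_subset.1 h3
    exact Subgroup.card_eq_one.1 ((Lib.Cores.pCore_isPGroup (G := G) p).card_eq_or_dvd.resolve_right
      fun h5 => hZ (h5.trans (Subgroup.card_dvd_of_le h4)))
  have hF : ∀ (N : Subgroup G) [N.Normal], D ⊓ N = ⊥ → N ≤ Subgroup.center G := by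
    intro N _ h
    by_contra h'
    have h3 : D ⊓ (N ⊔ Subgroup.center G) = ⊥ := by
      rw [eq_bot_iff]
      rintro d ⟨hd, hd'⟩
      obtain ⟨n, hn, z, hz, h4⟩ := Subgroup.mem_sup_of_normal_right.1 hd'
      have h5 : d ^ Nat.card (Subgroup.center G) ∈ D ⊓ N := by
        refine ⟨D.pow_mem hd _, ?_⟩
        have h6 : z ^ Nat.card (Subgroup.center G) = 1 :=
          congrArg Subtype.val (pow_card_eq_one' (x := (⟨z, hz⟩ : Subgroup.center G)))
        have h7 : Commute n z := Subgroup.mem_center_iff.1 hz n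
        rw [← h4, h7.mul_pow, h6, mul_one]
        exact N.pow_mem hn _
      rw [h, Subgroup.mem_bot] at h5
      obtain ⟨k, hk⟩ := hDp ⟨d, hd⟩
      have h6 : d ^ p ^ k = 1 := congrArg Subtype.val hk
      have h7 := (pow_gcd_eq_one.2 ⟨h6, h5⟩)
      rw [Nat.Coprime.pow_left k ((Nat.Prime.coprime_iff_not_dvd hp).2 hZ), pow_one] at h7
      exact Subgroup.mem_bot.2 h7
    have h4 : Subgroup.center G < N ⊔ Subgroup.center G :=
      lt_of_le_of_ne le_sup_right fun h5 => h' (h5 ▸ le_sup_left)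
    exact hne (eq_of_fong hM hB hD ha (st _).1 (st _).2 h3 fun H _ _ h5 =>
      ih H (Or.inl (h5.trans_lt (Subgroup.index_strictAnti h4))))
  by_cases hE : layer G = ⊥
  · have := Lib.Cores.fittingSubgroup_normal (G := G)
    have h3 : fittingSubgroup G ≤ Subgroup.center G := by
      refine hF _ (eq_bot_iff.2 fun x hx => ?_)
      obtain ⟨k, hk⟩ := hDp ⟨x, hx.1⟩
      exact hO ▸ Lib.GenFitting.mem_pCore_of_mem_fitting hx.2 (congrArg Subtype.val hk)
    have h4 : generalizedFittingSubgroup G ≤ Subgroup.center G := sup_le (hE ▸ bot_le) h3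
    have h5 : Subgroup.center G = ⊤ := by
      rw [eq_top_iff, ← Subgroup.centralizer_eq_top_iff_subset.2 h4]
      exact Lib.GenFitting.centralizer_genFitting_le.trans h4
    rw [h5, Subgroup.card_top] at hZ
    refine hne fun χ _ ψ _ => ?_
    have h6 := nu_le (p := p) χ
    rw [Nat.factorization_eq_zero_of_not_dvd hZ] at h6
    omega
  obtain ⟨K, hK⟩ : ∃ K : Subgroup G, IsComponent K := by
    by_contra h3
    exact hE (le_bot_iff.1 (layer_le_iff.2 fun K hK => absurd ⟨K, hK⟩ h3))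
  have hnc : ∀ L : Subgroup G, IsComponent L → ¬ L ≤ Subgroup.centralizer (L : Set G) := fun L hL h =>
    quasisimple_not_isMulCommutative hL.2 ⟨⟨fun a b => Subtype.ext (Subgroup.mem_centralizer_iff.1 (h b.2) a a.2)⟩⟩
  have hG0 : G0 G = ⊤ := by
    have := layer_normal G
    have := Zc_normal hM hB hD (st _).1
    have h3 := hF _ (inf_Zc hM hB hD (st _).1)
    have := G0_normal (G := G)
    refine hreg _ fun g hg => mem_G0.2 fun L hL => ?_
    have h4 : D ⊓ L ≠ ⊥ := fun h5 =>
      hnc L hL (((le_sSup (show L ∈ Zc D from ⟨hL, h5⟩)).trans h3).trans (Subgroup.center_le_centralizer _))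
    obtain ⟨⟨x, hx⟩, hx1⟩ := Subgroup.ne_bot_iff_exists_ne_one.1 h4
    exact centralizer_le_normalizer_comp hO hL hx.2 (fun h5 => hx1 (Subtype.ext h5))
      (hDp.to_le (Subgroup.zpowers_le.2 hx.1)) (Subgroup.mem_centralizer_iff.1 hg x hx.1).symm
  have hKn : K.Normal := by
    rw [← Subgroup.normalizer_eq_top_iff, eq_top_iff]
    exact fun g _ => mem_G0.1 (hG0 ▸ Subgroup.mem_top g) K hK
  by_cases hKt : K = ⊤
  · have hq : IsQuasisimple G := isQuasisimple_of_mulEquiv ((MulEquiv.subgroupCongr hKt).trans Subgroup.topEquiv) hK.2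
    have hf : ∀ χ ∈ B, ∀ z ∈ Subgroup.center G, (χ : G → ℂ) z = (χ : G → ℂ) 1 → z = 1 := by
      intro χ hχ z hz h
      by_contra h'
      have := zpowers_normal hz
      exact hne (eq_of_ker hM hB hD ha (Subgroup.zpowers z)
        (fun h3 => hZ (h3.trans (Subgroup.card_dvd_of_le (Subgroup.zpowers_le.2 hz)))) hχ (triv_zpowers χ hz h)
        (ih _ (lt_quot _ fun h3 => h' (Subgroup.zpowers_eq_bot.1 h3))))
    obtain ⟨χ, hχ⟩ := Basic.isPBlock_nonempty hB
    refine hne (eq_iff_hz.2 (hQ M hM G hq hZ (cyclic_center χ (hf χ hχ)) B D hB hD (ab_iff.1 ha)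
      (fun h3 => hne (eq_iff_hz.2 (TID.Blk.height_cyclic hM hB hD h3))) ?_ hf))
    by_contra h3
    exact hne (eq_iff_hz.2 (TID.Blk.height_small hM hB (by omega)))
  · exact hne (eq_of_prod le_rfl (sup_centralizer_eq_top hperf hK) (eqc K hKt)
      (eqc _ fun h => hnc K hK (h ▸ le_top)))

theorem pp_of_qsp (hQ : QSp.{u} p) (hM : IsPModular p M) (m : ℕ) : ∀ (n : ℕ) (G : Type u) [Group G] [Finite G],
    (Subgroup.center G).index ≤ m → Nat.card G ≤ n → PP p M G := by
  induction m using Nat.strong_induction_on with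
  | _ m ihm =>
    intro n
    induction n using Nat.strong_induction_on with
    | _ n ihn =>
      intro G _ _ h1 h2
      refine step hQ hM fun H _ _ h => ?_
      rcases h with h | ⟨h, h'⟩
      · exact ihm _ (h.trans_le h1) _ H le_rfl le_rfl
      · exact ihn _ (h'.trans_le h2) H (h.trans h1) le_rfl

theorem PP.of_equiv (hM : IsPModular p M) {H : Type v} [Group H] [Finite H] (e : H ≃* G) (h : PP p M H) :
    PP p M G := by
  have := Local.isPrime_of_isPModular hM
  intro B D hB hD ha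
  exact eq_of_cnt (fun d => (cnt_trSet p e B d).symm) (h _ _ (H592.Transport.isPBlock_trSet e hB)
    (H592.Transport.isDefectGroup_trSet e hD) (ha.comap e.injective))

/-- **The reduction to quasisimple groups** at one prime. -/
theorem kmp_of_qsp (hQ : QSp.{v} p) : KMp.{u} p := by
  intro M hM G _ _
  have : Small.{v} G := Countable.toSmall G
  have : Finite (Shrink.{v} G) := Finite.of_equiv G (equivShrink.{v} G)
  exact pp_iff.1 (PP.of_equiv hM Shrink.mulEquiv (pp_of_qsp hQ hM _ _ (Shrink.{v} G) le_rfl le_rfl))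

/-- **The reduction to quasisimple groups.** -/
theorem all_of_qs (hQ : QS.{v}) : KMAll.{u} := fun p _ => kmp_of_qsp (hQ p)

open scoped commutatorElement in
/-- **S4999 from the theorem of Kessar and Malle.** -/
theorem s4999_of (h : KMp.{u} p) (M : Ideal AlgInt) (hM : IsPModular p M) (B : Set (IrrCharacter G))
    (hB : IsPBlock M B) (D : Subgroup G) (hD : IsDefectGroup p M B D) (Z : Subgroup G)
    (hZc : Z ≤ Subgroup.center G) (hZp : IsPGroup p Z) (hZD : Z ≤ D) (lam : Z →* ℂˣ) (hab : ⁅D, D⁆ ≤ Z)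
    (hext : ∃ μ : D →* ℂˣ, ∀ z : Z, μ ⟨(z : G), hZD z.2⟩ = lam z) (χ : IrrCharacter G) (hχ : χ ∈ B)
    (hover : ∀ z : Z, (χ : G → ℂ) z = (χ : G → ℂ) 1 * (lam z : ℂ)) : blockHeight p B (χ : G → ℂ) = 0 := by
  letI := Fintype.ofFinite G
  obtain ⟨μ, hμ⟩ := hext
  set U : Subgroup G := lam.ker.map Z.subtype with hU
  have hUZ : U ≤ Z := Subgroup.map_subtype_le _
  have hUc := hUZ.trans hZc
  have : U.Normal := ⟨fun a ha g => by rwa [Subgroup.mem_center_iff.1 (hUc ha) g, mul_inv_cancel_right]⟩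
  have hUp : IsPGroup p U := hZp.to_le hUZ
  obtain ⟨θ, rfl⟩ := exists_infl U χ (by
    rintro _ ⟨z, hz, rfl⟩
    have h1 := hover z
    rw [MonoidHom.mem_ker.1 hz, Units.val_one, mul_one] at h1
    exact h1)
  have hb := H644.CentralQuot.isPBlock_defl hM hUc hUp hB
  have hd := (H658.isDefectGroup_defl hM hUc hUp hB hD).2
  have ha : Ab (D.map (QuotientGroup.mk' U)) := by
    rintro _ ⟨x, hx, rfl⟩ _ ⟨y, hy, rfl⟩
    rw [← map_mul, ← map_mul]
    refine QuotientGroup.eq.2 ?_
    have h1 : (x * y)⁻¹ * (y * x) = ⁅y⁻¹, x⁻¹⁆ := by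
      rw [commutatorElement_def]
      group
    have h2 : ⁅y⁻¹, x⁻¹⁆ ∈ Z := hab (Subgroup.commutator_mem_commutator (D.inv_mem hy) (D.inv_mem hx))
    rw [h1]
    refine ⟨⟨_, h2⟩, ?_, rfl⟩
    change lam ⟨_, h2⟩ = 1
    rw [← hμ]
    have h3 : (⟨⁅y⁻¹, x⁻¹⁆, hZD h2⟩ : D) = ⁅(⟨y, hy⟩ : D)⁻¹, (⟨x, hx⟩ : D)⁻¹⁆ := rfl
    change μ ⟨⁅y⁻¹, x⁻¹⁆, hZD h2⟩ = 1
    rw [h3, map_commutatorElement, commutatorElement_eq_one_iff_mul_comm]
    exact mul_comm _ _
  have h0 := h M hM _ _ _ hb hd (ab_iff.1 ha) θ hχ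
  obtain ⟨t, ht⟩ := IsPGroup.iff_card.1 hUp
  have h1 := H644.CentralQuot.blockDefect_defl hM hUc ht hB
  have h2 : (Nat.card G).factorization p = (Nat.card (G ⧸ U)).factorization p + t := by
    rw [Subgroup.card_eq_card_quotient_mul_card_subgroup U,
      Nat.factorization_mul Nat.card_pos.ne' Nat.card_pos.ne', Finsupp.add_apply, ht,
      (Fact.out : p.Prime).factorization_pow, Finsupp.single_eq_same]
  have h3 := nu_le (p := p) θ
  have h4 : sInf ((fun ψ : IrrCharacter G => (charDegree (ψ : G → ℂ)).factorization p) '' B) ≤ nu p θ :=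
    Nat.sInf_le ⟨_, hχ, rfl⟩
  have h5 : sInf ((fun ψ : IrrCharacter (G ⧸ U) => (charDegree (ψ : G ⧸ U → ℂ)).factorization p) '' defl U B) ≤
      nu p θ := Nat.sInf_le ⟨_, hχ, rfl⟩
  unfold blockDefect at h1
  unfold blockHeight at h0 ⊢
  change nu p θ - _ = 0 at h0 ⊢
  omega

end Cfsg.Agent.KM.BK
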