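import Cfsg.Agent.KM.BK.A
import Cfsg.Agent.H608.KKL.Star
import Cfsg.Agent.S0941
import Cfsg.Agent.S0967
import Cfsg.Agent.S4433

/-!
# KM, reduction to quasisimple groups: quotients and the second reduction (helper3)
-/

set_option autoImplicit false
set_option linter.style.haveILetI false
set_option linter.unusedSectionVars false

open Cfsg

namespace Cfsg.Agent.KM.BK

open Cfsg.Agent Cfsg.Agent.Characters.Core Cfsg.Agent.Blocks Cfsg.Agent.TID.Red
open Cfsg.Agent.H591.Reynolds (IsStab)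
open Cfsg.Agent.H644.CentralQuot (defl infl)

universe u v

variable {p : ℕ} [Fact p.Prime] {M : Ideal AlgInt} {G : Type u} [Group G] [Finite G]
  {B : Set (IrrCharacter G)} {D : Subgroup G}

theorem exists_infl (U : Subgroup G) [U.Normal] (χ : IrrCharacter G)
    (h : ∀ z ∈ U, (χ : G → ℂ) z = (χ : G → ℂ) 1) : ∃ θ, infl U θ = χ := by
  letI := Fintype.ofFinite U
  obtain ⟨θ, hθ⟩ := Deflate.exists_deflation U (χ : G → ℂ) χ.2 (by
    rw [Finset.sum_congr rfl fun (z : U) _ => h z z.2, Finset.sum_const, Finset.card_univ, nsmul_eq_mul]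
    exact mul_ne_zero (by exact_mod_cast Fintype.card_ne_zero) (isIrr_apply_one_ne_zero χ.2))
  exact ⟨θ, Subtype.ext hθ.symm⟩

theorem nu_infl (U : Subgroup G) [U.Normal] (θ : IrrCharacter (G ⧸ U)) : nu p (infl U θ) = nu p θ := rfl

theorem apply_mul_central (χ : IrrCharacter G) {z : G} (hz : z ∈ Subgroup.center G) (g : G) :
    (χ : G → ℂ) (g * z) = (χ : G → ℂ) z / (χ : G → ℂ) 1 * (χ : G → ℂ) g := by
  letI := Fintype.ofFinite G
  obtain ⟨c, hc⟩ := H644.CentralQuot.exists_scalar_center χ hz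
  have h1 := hc 1
  rw [one_mul] at h1
  rw [hc g, h1, mul_div_cancel_right₀ _ (isIrr_apply_one_ne_zero χ.2)]

theorem triv_zpowers (χ : IrrCharacter G) {z : G} (hz : z ∈ Subgroup.center G)
    (h : (χ : G → ℂ) z = (χ : G → ℂ) 1) : ∀ y ∈ Subgroup.zpowers z, (χ : G → ℂ) y = (χ : G → ℂ) 1 := by
  intro y hy
  obtain ⟨k, rfl⟩ := (mem_powers_iff_mem_zpowers.2 hy)
  change (χ : G → ℂ) (z ^ k) = _
  induction k with
  | zero => rw [pow_zero]
  | succ k ih =>
    rw [pow_succ, apply_mul_central χ hz, h, div_self (isIrr_apply_one_ne_zero χ.2), one_mul]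
    exact ih (Subgroup.pow_mem _ (Subgroup.mem_zpowers z) k)

omit [Finite G] in
theorem zpowers_normal {z : G} (hz : z ∈ Subgroup.center G) : (Subgroup.zpowers z).Normal :=
  ⟨fun a ha g => by
    rwa [Subgroup.mem_center_iff.1 ((Subgroup.zpowers_le.2 hz) ha) g, mul_inv_cancel_right]⟩

/-- a character faithful on the centre -/
theorem cyclic_center (χ : IrrCharacter G)
    (h : ∀ z ∈ Subgroup.center G, (χ : G → ℂ) z = (χ : G → ℂ) 1 → z = 1) : IsCyclic (Subgroup.center G) := by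
  have h1 := isIrr_apply_one_ne_zero χ.2
  let f : Subgroup.center G →* ℂ :=
    { toFun := fun z => (χ : G → ℂ) z / (χ : G → ℂ) 1
      map_one' := div_self h1
      map_mul' := fun a b => by
        rw [Subgroup.coe_mul, apply_mul_central χ b.2]
        ring }
  refine isCyclic_of_injective_ringHom f ?_
  rw [injective_iff_map_eq_one]
  intro z hz
  exact Subtype.ext (h z z.2 ((div_eq_one_iff_eq h1).1 hz))

open Cfsg.Agent.H649 Cfsg.Agent.H651 Cfsg.Agent.H650 Cfsg.Agent.H608.KKL in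
/-- **The star construction removes a central element of order `p`.** -/
theorem exists_triv (hM : IsPModular p M) (hB : IsPBlock M B) (hD : IsDefectGroup p M B D) (ha : Ab D) {z : G}
    (hz : z ∈ Subgroup.center G) (hzD : z ∈ D) (ho : orderOf z = p) {χ : IrrCharacter G} (hχ : χ ∈ B) :
    ∃ χ' ∈ B, (χ' : G → ℂ) 1 = (χ : G → ℂ) 1 ∧ (χ' : G → ℂ) z = (χ' : G → ℂ) 1 := by
  classical
  have := Local.isPrime_of_isPModular hM
  have := Fintype.ofFinite G
  have hpr : p.Prime := Fact.out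
  obtain ⟨e, he⟩ := H644.exists_pair_of_le_isDefectGroup hM hB hD le_rfl
  let a : BrauerPairIdx G := ⟨D, e⟩
  have hmax : IsMaximalBrauerPair p M B a.1 a.2 := H644.isMaximalBrauerPair_of_isDefectGroup hM he hD
  have huc : ∀ g : G, g * z = z * g := Subgroup.mem_center_iff.1 hz
  let _ : CommGroup a.1 := { (inferInstance : Group a.1) with
    mul_comm := fun x y => Subtype.ext (ha x x.2 y y.2) }
  obtain ⟨μ, hμ⟩ : ∃ μ : a.1 →* ℂˣ, orderOf (μ ⟨z, hzD⟩) = p := by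
    have hne : (⟨z, hzD⟩ : a.1) ≠ 1 := by
      intro h1
      have h2 : z = 1 := congrArg Subtype.val h1
      rw [h2, orderOf_one] at ho
      exact hpr.ne_one ho.symm
    obtain ⟨φ, hφ⟩ := CommGroup.exists_apply_ne_one_of_hasEnoughRootsOfUnity a.1 ℂ hne
    refine ⟨φ, orderOf_eq_prime ?_ hφ⟩
    have h1 : (⟨z, hzD⟩ : a.1) ^ p = 1 := Subtype.ext (by
      change z ^ p = 1
      rw [← ho]
      exact pow_orderOf_eq_one z)
    rw [← map_pow, h1, map_one]
  obtain ⟨l, m, hm, hlinv, hlfix⟩ := H608.F5.exists_stable_hom hM hmax μ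
  have hlu : orderOf (l ⟨z, hzD⟩) = p := by
    rw [hlfix ⟨z, hzD⟩ fun s => Subtype.ext (by
      rw [H608.F5.act_coe]
      show (s : G) * z * (s : G)⁻¹ = z
      rw [huc, mul_inv_cancel_right]), Nat.Coprime.orderOf_pow, hμ]
    rw [hμ]
    exact (Nat.Prime.coprime_iff_not_dvd hpr).2 hm
  have h1 := isIrr_apply_one_ne_zero χ.2
  have hc : ((χ : G → ℂ) z / (χ : G → ℂ) 1) ^ p = 1 :=
    H658.KKL.FongTwo.scalar_pow h1 (apply_mul_central χ hz) (by rw [← ho]; exact pow_orderOf_eq_one z)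
  have hc0 : (χ : G → ℂ) z / (χ : G → ℂ) 1 ≠ 0 := fun h => by
    rw [h, zero_pow hpr.ne_zero] at hc
    exact zero_ne_one hc
  have hprim : IsPrimitiveRoot ((l ⟨z, hzD⟩ : ℂˣ) : ℂ) p := by
    rw [IsPrimitiveRoot.coe_units_iff, ← hlu]
    exact IsPrimitiveRoot.orderOf _
  have : NeZero p := ⟨hpr.ne_zero⟩
  obtain ⟨i, -, hi⟩ := hprim.eq_pow_of_pow_eq_one (ξ := ((χ : G → ℂ) z / (χ : G → ℂ) 1)⁻¹)
    (by rw [inv_pow, hc, inv_one])
  have hst : IsStable p M a (ext0 a.1 (l ^ i)) :=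
    isStable_of_inv hM hmax ha _ fun s v => by rw [MonoidHom.pow_apply, MonoidHom.pow_apply, hlinv]
  have hirr := star_isIrr hM hmax hst (fun _ hg => ext0_mul_conj _ hg) (ext0_apply_one _) hχ
    (star_isGeneralizedCharacter hM hmax (isGeneralizedCharacter_ext0 _) hst (isIrr_isCharacter χ.2))
  have hone : H651.star p M a (ext0 a.1 (l ^ i)) (χ : G → ℂ) 1 = (χ : G → ℂ) 1 := by
    rw [star_apply_reg hM hmax hst hχ (by rw [orderOf_one, Nat.dvd_one]; exact hpr.ne_one), ext0_apply_one,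
      one_mul]
  refine ⟨_, star_mem hM hmax hχ hirr, hone, ?_⟩
  change H651.star p M a (ext0 a.1 (l ^ i)) (χ : G → ℂ) z = H651.star p M a (ext0 a.1 (l ^ i)) (χ : G → ℂ) 1
  rw [hone, star_apply_central hM hmax hst hχ hzD huc, ext0_of_mem _ hzD, MonoidHom.pow_apply,
    Units.val_pow_eq_pow_val, hi]
  have h2 : (χ : G → ℂ) z ≠ 0 := fun h => hc0 (by rw [h, zero_div])
  field_simp

/-- **Central elements of order `p`.** -/
theorem eq_of_central (hM : IsPModular p M) (hB : IsPBlock M B) (hD : IsDefectGroup p M B D) (ha : Ab D) {z : G}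
    (hz : z ∈ Subgroup.center G) (ho : orderOf z = p) [(Subgroup.zpowers z).Normal]
    (ih : PP p M (G ⧸ Subgroup.zpowers z)) : EQ p B := by
  letI := Fintype.ofFinite G
  have hU : Subgroup.zpowers z ≤ Subgroup.center G := Subgroup.zpowers_le.2 hz
  have hp : IsPGroup p (Subgroup.zpowers z) := IsPGroup.of_card (n := 1) (by rw [Nat.card_zpowers, ho, pow_one])
  obtain ⟨h1, h2⟩ := H658.isDefectGroup_defl hM hU hp hB hD
  have hE := ih _ _ (H644.CentralQuot.isPBlock_defl hM hU hp hB) h2 (ha.map _)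
  have key : ∀ χ ∈ B, ∃ θ ∈ defl (Subgroup.zpowers z) B, nu p χ = nu p θ := by
    intro χ hχ
    obtain ⟨χ', h3, h4, h5⟩ := exists_triv hM hB hD ha hz (h1 (Subgroup.mem_zpowers z)) ho hχ
    obtain ⟨θ, rfl⟩ := exists_infl _ χ' (triv_zpowers χ' hz h5)
    refine ⟨θ, h3, ?_⟩
    rw [← nu_infl]
    unfold nu charDegree
    rw [h4]
  intro χ hχ χ' hχ'
  obtain ⟨θ, hθ, h3⟩ := key χ hχ
  obtain ⟨θ', hθ', h4⟩ := key χ' hχ'
  rw [h3, h4]
  exact hE θ hθ θ' hθ'

/-- **Normal `p'`-subgroups in the kernel.** -/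
theorem eq_of_ker (hM : IsPModular p M) (hB : IsPBlock M B) (hD : IsDefectGroup p M B D) (ha : Ab D)
    (U : Subgroup G) [U.Normal] (hU : ¬ p ∣ Nat.card U) {χ₀ : IrrCharacter G} (h₀ : χ₀ ∈ B)
    (h : ∀ z ∈ U, (χ₀ : G → ℂ) z = (χ₀ : G → ℂ) 1) (ih : PP p M (G ⧸ U)) : EQ p B := by
  have := Local.isPrime_of_isPModular hM
  obtain ⟨θ₀, rfl⟩ := exists_infl U χ₀ h
  have hb : IsPBlock M (blockOf M (θ₀ : G ⧸ U → ℂ)) := ⟨θ₀, rfl⟩
  obtain ⟨D', hD'⟩ := H592.Defect.exists_defectGroup p hM hb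
  obtain ⟨P, hP, h1⟩ := S4433.result p M hM U _ hb B hB (fun χ hχ ψ hψ =>
    Basic.isPBlock_mem_of_sameBlock hB h₀ (by rw [hψ]; exact S0941.sameBlock_inflate U hχ)) D' hD'
  have hE := ih _ _ hb hD' (((ab_of_defect hM hB hD ha hP).map _).mono h1)
  have key : ∀ χ ∈ B, ∃ θ ∈ blockOf M (θ₀ : G ⧸ U → ℂ), nu p χ = nu p θ := by
    intro χ hχ
    obtain ⟨θ, h2, h3⟩ := S0967.result p M hM U hU θ₀ χ (Basic.isPBlock_sameBlock hB h₀ hχ)
    refine ⟨θ, h3, ?_⟩
    unfold nu charDegree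
    rw [h2]
    rfl
  intro χ hχ χ' hχ'
  obtain ⟨θ, hθ, h3⟩ := key χ hχ
  obtain ⟨θ', hθ', h4⟩ := key χ' hχ'
  rw [h3, h4]
  exact hE θ hθ θ' hθ'

open Cfsg.Agent.H592.Har Cfsg.Agent.H658.KKL.FongTwo in
/-- **The second reduction.** -/
theorem eq_of_fong (hM : IsPModular p M) (hB : IsPBlock M B) (hD : IsDefectGroup p M B D) (ha : Ab D)
    {N : Subgroup G} [hN : N.Normal] (hc : IsPBlock M (cov B N)) (hst : IsStab (cov B N) ⊤) (hDN : D ⊓ N = ⊥)
    (ih : ∀ (H : Type u) [Group H] [Finite H], (Subgroup.center H).index ≤ N.index → PP p M H) : EQ p B := by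
  have := Local.isPrime_of_isPModular hM
  letI := Fintype.ofFinite N
  have hd := defect_cov hM hB hD hc
  rw [hDN, Subgroup.bot_subgroupOf] at hd
  obtain ⟨θ, hθc, h0⟩ := exists_of_defect_bot hM hc hd
  have hcov := covH_cov (N := N) hB
  rw [hθc] at hst hcov
  have hinv : ∀ (g : G) (n : N), (θ : N → ℂ) ⟨g * n * g⁻¹, hN.conj_mem n n.2 g⟩ = (θ : N → ℂ) n := by
    intro g n
    have h1 : Covering.conjIrr N g θ = θ := (hst.mem_iff g).1 (Subgroup.mem_top g) θ rfl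
    conv_rhs => rw [← h1]
    rfl
  obtain ⟨E, i1, i2, ⟨C⟩⟩ := H289.KKL.exists_cover' p N θ hinv h0
  have hθ : IsIrrCharacter N (θ : N → ℂ) := θ.2
  have hdeg : charDegree C.ψ = charDegree (θ : N → ℂ) := by
    unfold charDegree
    rw [theta_one C]
  have h0' : (charDegree C.ψ).factorization p = (Nat.card C.s.range).factorization p := by
    rw [hdeg, card_range C, h0]
  have h0'' : MemLocalRing M (C.ψ 1 / (Nat.card C.s.range : ℂ)) := by
    rw [Basic.irr_one_eq_charDegree C.irr]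
    exact DefectCard.memLocalRing_natDiv hM Nat.card_pos.ne' h0'.ge
  obtain ⟨χ₀, hχ₀, θ', hθ', hne⟩ := hcov
  rw [Set.mem_singleton_iff] at hθ'
  subst hθ'
  rw [ov_subtype_iff] at hne
  obtain ⟨hBs, hX⟩ := star_block C hM hθ hinv h0'' hB ⟨χ₀, hχ₀, hne⟩
  obtain ⟨R, hR1, hR2, hR3, -⟩ := exists_defect C hM hθ h0'' h0' hX hBs ⟨χ₀, hχ₀⟩ hD hDN
  have hZ := Z_normal C
  obtain ⟨e⟩ := quotient_iso C
  have h1 : (Subgroup.center (E ⧸ C.s.range)).index ≤ N.index :=
    (Subgroup.index_antitone C.Z_le_center).trans (Nat.card_congr e.toEquiv).le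
  have hR : Ab R := by
    intro x hx y hy
    have h2 : C.π x * C.π y = C.π y * C.π x :=
      ha _ (hR1 ▸ Subgroup.mem_map_of_mem _ hx) _ (hR1 ▸ Subgroup.mem_map_of_mem _ hy)
    have h3 := hR2 (x * y * (y * x)⁻¹) (R.mul_mem (R.mul_mem hx hy) (R.inv_mem (R.mul_mem hy hx)))
      (by rw [map_mul, map_inv, map_mul, map_mul, h2, mul_inv_cancel])
    exact mul_inv_eq_one.1 h3
  exact eq_iff_hz.2 (height_of_star C hθ hX (eq_iff_hz.1 (ih _ h1 _ _ hBs hR3 (hR.map _))))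

end Cfsg.Agent.KM.BK
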