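import Cfsg.Agent.KM.BK.Defs
import Cfsg.Agent.TID.Red.R2
import Cfsg.Agent.S0887
import Cfsg.Agent.S0929
import Cfsg.Agent.S0964
import Cfsg.Agent.S0970
import Cfsg.Agent.S4432
import Cfsg.Agent.S4640
import Cfsg.Agent.S4671

/-!
# KM, reduction to quasisimple groups: normal subgroups (helper3)
-/

set_option autoImplicit false
set_option linter.style.haveILetI false
set_option linter.unusedSectionVars false

open Cfsg

namespace Cfsg.Agent.KM.BK

open Cfsg.Agent Cfsg.Agent.Characters.Core Cfsg.Agent.Blocks Cfsg.Agent.TID.Red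
open Cfsg.Agent.H591.Reynolds (IsStab)

universe u v

/-- the exponent of `p` in the degree -/
noncomputable def nu (p : ℕ) {G : Type u} [Group G] (χ : IrrCharacter G) : ℕ :=
  (charDegree (χ : G → ℂ)).factorization p

/-- all degrees have the same `p`-part -/
def EQ (p : ℕ) {G : Type u} [Group G] (B : Set (IrrCharacter G)) : Prop :=
  ∀ χ ∈ B, ∀ ψ ∈ B, nu p χ ≤ nu p ψ

theorem eq_iff_hz {p : ℕ} {G : Type u} [Group G] {B : Set (IrrCharacter G)} : EQ p B ↔ HZ p B :=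
  ⟨fun h χ hχ => H658.KKL.FongTwo.height_of_le h χ hχ,
    fun h _ hχ _ hψ => H658.KKL.FongTwo.le_of_height h hχ hψ⟩

/-- an abelian subgroup -/
def Ab {G : Type u} [Group G] (D : Subgroup G) : Prop := ∀ x ∈ D, ∀ y ∈ D, x * y = y * x

theorem ab_iff {G : Type u} [Group G] {D : Subgroup G} : Ab D ↔ IsMulCommutative D :=
  ⟨fun h => ⟨⟨fun a b => Subtype.ext (h a a.2 b b.2)⟩⟩,
    fun h x hx y hy => congrArg Subtype.val (h.is_comm.comm ⟨x, hx⟩ ⟨y, hy⟩)⟩

theorem Ab.map {G : Type u} {H : Type v} [Group G] [Group H] {D : Subgroup G} (h : Ab D) (f : G →* H) :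
    Ab (D.map f) := by
  rintro _ ⟨x, hx, rfl⟩ _ ⟨y, hy, rfl⟩
  rw [← map_mul, ← map_mul, h x hx y hy]

theorem Ab.mono {G : Type u} [Group G] {D E : Subgroup G} (h : Ab D) (hE : E ≤ D) : Ab E :=
  fun x hx y hy => h x (hE hx) y (hE hy)

theorem Ab.comap {G : Type u} {H : Type v} [Group G] [Group H] {D : Subgroup H} (h : Ab D) {f : G →* H}
    (hf : Function.Injective f) : Ab (D.comap f) := fun x hx y hy => hf (by
  rw [map_mul, map_mul]
  exact h _ hx _ hy)

theorem Ab.of_map {G : Type u} {H : Type v} [Group G] [Group H] {D : Subgroup G} {f : G →* H}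
    (hf : Function.Injective f) (h : Ab (D.map f)) : Ab D := by
  have h1 := h.comap hf
  rwa [Subgroup.comap_map_eq_self_of_injective hf] at h1

theorem Ab.inf_subgroupOf {G : Type u} [Group G] {D : Subgroup G} (h : Ab D) (N : Subgroup G) :
    Ab ((D ⊓ N).subgroupOf N) := (h.mono inf_le_left).comap N.subtype_injective

theorem Ab.le_centralizer {G : Type u} [Group G] {D : Subgroup G} (h : Ab D) :
    D ≤ Subgroup.centralizer (D : Set G) := fun x hx =>
  Subgroup.mem_centralizer_iff.2 fun y hy => h y hy x hx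

/-- the statement proved by induction -/
def PP (p : ℕ) (M : Ideal AlgInt) (G : Type u) [Group G] : Prop :=
  ∀ (B : Set (IrrCharacter G)) (D : Subgroup G), IsPBlock M B → IsDefectGroup p M B D → Ab D → EQ p B

theorem pp_iff {p : ℕ} {M : Ideal AlgInt} {G : Type u} [Group G] : PP p M G ↔ KMg p M G :=
  ⟨fun h B D hB hD ha => eq_iff_hz.1 (h B D hB hD (ab_iff.2 ha)),
    fun h B D hB hD ha => eq_iff_hz.2 (h B D hB hD (ab_iff.1 ha))⟩

variable {p : ℕ} [Fact p.Prime] {M : Ideal AlgInt} {G : Type u} [Group G] [Finite G]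
  {B : Set (IrrCharacter G)} {D : Subgroup G}

theorem nu_le (χ : IrrCharacter G) : nu p χ ≤ (Nat.card G).factorization p :=
  (Nat.factorization_le_iff_dvd (Basic.charDegree_pos χ.2).ne' Nat.card_pos.ne').2 (S0914.degree_spec χ).2.2 p

theorem ab_of_defect (hM : IsPModular p M) (hB : IsPBlock M B) (hD : IsDefectGroup p M B D) (ha : Ab D)
    {E : Subgroup G} (hE : IsDefectGroup p M B E) : Ab E := by
  obtain ⟨x, rfl⟩ := conj_defect hM hB hD hE
  exact ha.map _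

theorem eq_of_cnt {H : Type v} [Group H] [Finite H] {B' : Set (IrrCharacter H)}
    (h : ∀ d, cnt p B d = cnt p B' d) (hE : EQ p B') : EQ p B := by
  have hf := finite_irr (G := G)
  have key : ∀ χ ∈ B, ∃ ψ ∈ B', (Nat.card H).factorization p + nu p χ = (Nat.card G).factorization p + nu p ψ := by
    intro χ hχ
    have h1 := nu_le (p := p) χ
    have h2 : cnt p B ((Nat.card G).factorization p - nu p χ) ≠ 0 := by
      unfold cnt
      refine (Nat.card_pos_iff.2 ⟨⟨⟨χ, hχ, ?_⟩⟩, inferInstance⟩).ne'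
      exact (Nat.sub_add_cancel h1).symm
    rw [h] at h2
    obtain ⟨⟨ψ, hψ, h3⟩⟩ := (Nat.card_ne_zero.1 h2).1
    refine ⟨ψ, hψ, ?_⟩
    change _ = _ + nu p ψ at h3
    omega
  intro χ hχ χ' hχ'
  obtain ⟨ψ, hψ, h1⟩ := key χ hχ
  obtain ⟨ψ', hψ', h2⟩ := key χ' hχ'
  have h3 := hE ψ hψ ψ' hψ'
  omega

/-- the constituents on `N` of the members of `B` -/
def cov (B : Set (IrrCharacter G)) (N : Subgroup G) : Set (IrrCharacter N) :=
  {θ | ∃ χ ∈ B, Ov N.subtype (χ : G → ℂ) (θ : N → ℂ)}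

variable {N : Subgroup G} [hN : N.Normal]

omit hN in
theorem covH_cov [M.IsPrime] (hB : IsPBlock M B) : CovH N.subtype B (cov B N) := by
  obtain ⟨χ, hχ⟩ := Basic.isPBlock_nonempty hB
  obtain ⟨θ, hθ⟩ := exists_ov N.subtype χ.2
  exact ⟨χ, hχ, θ, ⟨χ, hχ, hθ⟩, hθ⟩

omit hN in
theorem covH_iff [Fintype N] {b : Set (IrrCharacter N)} : CovH N.subtype B b ↔
    ∃ χ ∈ B, ∃ θ ∈ b, classInner (fun n : N => (χ : G → ℂ) n) (θ : N → ℂ) ≠ 0 := by
  unfold CovH
  simp only [ov_subtype_iff]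

omit hN in
theorem eq_cov [M.IsPrime] (hc : IsPBlock M (cov B N)) {b : Set (IrrCharacter N)} (hb : IsPBlock M b)
    (h : CovH N.subtype B b) : b = cov B N := by
  obtain ⟨χ, hχ, θ, hθ, h1⟩ := h
  exact Basic.isPBlock_eq_of_mem hb hc hθ ⟨χ, hχ, h1⟩

/-- **Fong–Reynolds.** -/
theorem cov_or (hM : IsPModular p M) (hB : IsPBlock M B) (hD : IsDefectGroup p M B D) (ha : Ab D)
    (N : Subgroup G) [hN : N.Normal] (ih : ∀ T : Subgroup G, T ≠ ⊤ → PP p M T) :
    EQ p B ∨ (IsPBlock M (cov B N) ∧ IsStab (cov B N) ⊤) := by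
  have := Local.isPrime_of_isPModular hM
  letI := Fintype.ofFinite G
  letI := Fintype.ofFinite N
  obtain ⟨χ, hχ⟩ := Basic.isPBlock_nonempty hB
  obtain ⟨θ, hθ⟩ := exists_ov N.subtype χ.2
  have hβ : IsPBlock M (blockOf M (θ : N → ℂ)) := ⟨θ, rfl⟩
  have hθβ : θ ∈ blockOf M (θ : N → ℂ) := Basic.mem_blockOf_self θ
  obtain ⟨T, hT⟩ := exists_isStab hβ
  by_cases h : T = ⊤
  · right
    subst h
    have h1 : cov B N = blockOf M (θ : N → ℂ) := by
      ext ψ
      constructor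
      · rintro ⟨χ', hχ', h2⟩
        obtain ⟨g, θ', hθ', h3⟩ := S0964.result p M hM N B hB _ hβ χ hχ θ hθβ ((ov_subtype_iff N _ _).1 hθ) χ' hχ' ψ
          ((ov_subtype_iff N _ _).1 h2)
        exact (hT g).1 (Subgroup.mem_top g) θ' hθ' ψ h3
      · intro hψ
        obtain ⟨χ', hχ', h2⟩ := S4432.result p M hM N B hB _ hβ ⟨χ, hχ, θ, hθβ, (ov_subtype_iff N _ _).1 hθ⟩ ψ hψ
        exact ⟨χ', hχ', (ov_subtype_iff N _ _).2 h2⟩
    rw [h1]
    exact ⟨hβ, hT⟩
  · left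
    obtain ⟨B', hB', hcov, hi⟩ := FR_down hM hβ hT (hT.le hβ) hB ⟨χ, hχ, θ, hθβ, hθ⟩
    obtain ⟨D', hD'⟩ := H592.Defect.exists_defectGroup p hM hB'
    have h1 := FR_defect hM hβ hT (hT.le hβ) hB' hcov hi hD'
    exact eq_of_cnt (FR_cnt hM hβ hT (hT.le hβ) hB' hcov hi)
      (ih T h B' D' hB' hD' (Ab.of_map T.subtype_injective (ab_of_defect hM hB hD ha h1)))

theorem defect_cov (hM : IsPModular p M) (hB : IsPBlock M B) (hD : IsDefectGroup p M B D)
    (hc : IsPBlock M (cov B N)) : IsDefectGroup p M (cov B N) ((D ⊓ N).subgroupOf N) := by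
  have := Local.isPrime_of_isPModular hM
  letI := Fintype.ofFinite G
  letI := Fintype.ofFinite N
  obtain ⟨c, h1, -, h2, h3⟩ := S4671.result p M hM N B hB D hD
  rwa [eq_cov hc h1 (covH_iff.2 h2)] at h3

theorem eq_cov_of_pp (hM : IsPModular p M) (hB : IsPBlock M B) (hD : IsDefectGroup p M B D) (ha : Ab D)
    (hc : IsPBlock M (cov B N)) (ih : PP p M N) : EQ p (cov B N) :=
  ih _ _ hc (defect_cov hM hB hD hc) (ha.inf_subgroupOf N)

/-- **Index prime to `p`.** -/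
theorem eq_of_index (hi : ¬ p ∣ N.index) (hE : EQ p (cov B N)) : EQ p B := by
  letI := Fintype.ofFinite G
  letI := Fintype.ofFinite N
  have key : ∀ χ ∈ B, ∃ θ ∈ cov B N, nu p χ = nu p θ := by
    intro χ hχ
    obtain ⟨θ, hθ⟩ := exists_ov N.subtype χ.2
    refine ⟨θ, ⟨χ, hχ, hθ⟩, ?_⟩
    obtain ⟨⟨m, hm⟩, h2⟩ := S0887.result N χ χ.2 θ θ.2 ((ov_subtype_iff N _ _).1 hθ) _ _
      (Basic.irr_one_eq_charDegree χ.2) (Basic.irr_one_eq_charDegree θ.2)
    have h3 := Basic.charDegree_pos θ.2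
    rw [hm, Nat.mul_div_cancel_left _ h3] at h2
    have h4 : m ≠ 0 := by
      rintro rfl
      exact (Basic.charDegree_pos χ.2).ne' hm
    unfold nu
    rw [hm, Nat.factorization_mul h3.ne' h4, Finsupp.add_apply,
      Nat.factorization_eq_zero_of_not_dvd (fun h5 => hi (h5.trans h2)), add_zero]
  intro χ hχ χ' hχ'
  obtain ⟨θ, hθ, h1⟩ := key χ hχ
  obtain ⟨θ', hθ', h2⟩ := key χ' hχ'
  rw [h1, h2]
  exact hE θ hθ θ' hθ'

/-- **Index a power of `p`.** -/
theorem eq_of_index_pow (hM : IsPModular p M) (hB : IsPBlock M B) (hD : IsDefectGroup p M B D) (ha : Ab D)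
    (hc : IsPBlock M (cov B N)) (hst : IsStab (cov B N) ⊤) (hi : ∃ k, N.index = p ^ k)
    (hE : EQ p (cov B N)) : EQ p B := by
  have := Local.isPrime_of_isPModular hM
  letI := Fintype.ofFinite G
  letI := Fintype.ofFinite N
  have h1 : ∀ g : G, StabilizesBlock N (cov B N) g := by
    intro g
    refine ⟨by rw [Subgroup.normalizer_eq_top]; trivial, fun θ hθ =>
      ⟨Covering.conjIrr N g⁻¹ θ, (hst.mem_iff g⁻¹).1 (Subgroup.mem_top _) θ hθ, fun k k' h => ?_⟩⟩
    rw [Covering.conjIrr_apply]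
    refine congrArg (θ : N → ℂ) (Subtype.ext ?_)
    rw [MulAut.conjNormal_apply, h]
    group
  have h2 := (S4640.result p M hM N hi _ hc h1 B hB (covH_iff.1 (covH_cov hB)) D hD ha).2.2.1
  have key : ∀ χ ∈ B, ∃ θ ∈ cov B N, nu p χ = nu p θ := by
    intro χ hχ
    obtain ⟨θ, hθ, h3⟩ := h2 χ hχ
    refine ⟨θ, hθ, ?_⟩
    unfold nu charDegree
    rw [← h3 1]
    rfl
  intro χ hχ χ' hχ'
  obtain ⟨θ, hθ, h1⟩ := key χ hχ
  obtain ⟨θ', hθ', h2⟩ := key χ' hχ'
  rw [h1, h2]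
  exact hE θ hθ θ' hθ'

/-- **A normal subgroup containing `D C_G(D)` has index prime to `p`.** -/
theorem not_dvd_index (hM : IsPModular p M) (hB : IsPBlock M B) (hD : IsDefectGroup p M B D)
    (hc : IsPBlock M (cov B N)) (hst : IsStab (cov B N) ⊤) (hDN : D ≤ N)
    (hC : Subgroup.centralizer (D : Set G) ≤ N) : ¬ p ∣ N.index := by
  have := Local.isPrime_of_isPModular hM
  letI := Fintype.ofFinite G
  letI := Fintype.ofFinite N
  have hd := defect_cov hM hB hD hc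
  rw [inf_eq_left.2 hDN] at hd
  have key : ∀ B' : Set (IrrCharacter G), IsPBlock M B' →
      (∃ χ ∈ B', ∃ θ ∈ cov B N, classInner (fun n : N => (χ : G → ℂ) n) (θ : N → ℂ) ≠ 0) →
      ∀ χ ∈ B', ∀ g : G, g ∉ N → MemLocalIdeal M (centralChar (χ : G → ℂ) g) := by
    intro B' hB' hcov χ hχ g hg
    obtain ⟨P, hP, hPD⟩ := S4438.result p M hM N _ hc D hDN hd B' hB' hcov
    by_contra h1
    obtain ⟨x, h2, h3, -⟩ := S0929.result p M hM B' hB' P hP g ⟨χ, hχ, h1⟩
    have h4 : x ∈ N := hC (Subgroup.centralizer_le (by rw [← hPD]; exact fun y hy => hy.1) h3)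
    obtain ⟨c, rfl⟩ := isConj_iff.1 h2
    apply hg
    have h5 := hN.conj_mem _ h4 c⁻¹
    simpa [mul_assoc] using h5
  have hcovB := covH_iff.1 (covH_cov (N := N) hB)
  have huniq : ∀ B' : Set (IrrCharacter G), IsPBlock M B' →
      (∃ χ ∈ B', ∃ θ ∈ cov B N, classInner (fun n : N => (χ : G → ℂ) n) (θ : N → ℂ) ≠ 0) → B' = B := by
    intro B' hB' hcov
    obtain ⟨χ, hχ⟩ := Basic.isPBlock_nonempty hB
    obtain ⟨χ', hχ'⟩ := Basic.isPBlock_nonempty hB'
    obtain ⟨θ, hθ⟩ := Basic.isPBlock_nonempty hc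
    refine Basic.isPBlock_eq_of_sameBlock hB' hB hχ' hχ fun g => ?_
    by_cases hg : g ∈ N
    · exact Local.memLocalIdeal_sub_trans ((S0965.result p M hM N B' hB' _ hc).1 hcov χ' hχ' θ hθ ⟨g, hg⟩)
        (Local.memLocalIdeal_sub_comm ((S0965.result p M hM N B hB _ hc).1 hcovB χ hχ θ hθ ⟨g, hg⟩))
    · exact Local.memLocalIdeal_sub (key B' hB' hcov χ' hχ' g hg) (key B hB hcovB χ hχ g hg)
  have h1 := (S0970.result p M hM N _ hc (fun g => (hst g).1 (Subgroup.mem_top g)) B hB hcovB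
    (fun B' hB' hcov => by rw [huniq B' hB' hcov]) D hD).1
  rwa [sup_eq_right.2 hDN] at h1

end Cfsg.Agent.KM.BK
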