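import Cfsg.Prelude.Def_Blocks
import Cfsg.Prelude.Def_CaseTheorems

/-!
# KM: statements (helper3)

* `HZ p B` : all members of `B` have height zero;
* `KMg p M G` : every block of `G` with an abelian defect group has all heights zero;
* `KMAll` : the same for all finite groups;
* `QS` : the same for the blocks of quasisimple groups with cyclic centre of order prime to `p` that are faithful
  on the centre and have a non-cyclic abelian defect group of order at least `p ^ 3`.
-/

set_option autoImplicit false

open Cfsg

namespace Cfsg.Agent.KM.BK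

universe u

/-- All members of `B` have height zero. -/
def HZ (p : ℕ) {G : Type u} [Group G] (B : Set (IrrCharacter G)) : Prop :=
  ∀ χ ∈ B, blockHeight p B (χ : G → ℂ) = 0

/-- The blocks of `G` with an abelian defect group have all heights zero. -/
def KMg (p : ℕ) (M : Ideal AlgInt) (G : Type u) [Group G] : Prop :=
  ∀ (B : Set (IrrCharacter G)) (D : Subgroup G), IsPBlock M B → IsDefectGroup p M B D → IsMulCommutative D →
    HZ p B

/-- The theorem of Kessar and Malle at the prime `p`. -/
def KMp (p : ℕ) : Prop :=
  ∀ (M : Ideal AlgInt), IsPModular p M → ∀ (G : Type u) [Group G] [Finite G], KMg p M G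

/-- The theorem of Kessar and Malle. -/
def KMAll : Prop := ∀ (p : ℕ) [Fact p.Prime], KMp.{u} p

/-- The quasisimple case at the prime `p`. -/
def QSp (p : ℕ) : Prop :=
  ∀ (M : Ideal AlgInt), IsPModular p M → ∀ (K : Type u) [Group K] [Finite K], IsQuasisimple K →
    ¬ p ∣ Nat.card (Subgroup.center K) → IsCyclic (Subgroup.center K) →
    ∀ (B : Set (IrrCharacter K)) (D : Subgroup K), IsPBlock M B → IsDefectGroup p M B D → IsMulCommutative D →
      ¬ IsCyclic D → 3 ≤ blockDefect p B →
      (∀ χ ∈ B, ∀ z ∈ Subgroup.center K, (χ : K → ℂ) z = (χ : K → ℂ) 1 → z = 1) → HZ p B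

/-- The quasisimple case. -/
def QS : Prop := ∀ (p : ℕ) [Fact p.Prime], QSp.{u} p

end Cfsg.Agent.KM.BK
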